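import Cfsg.Agent.H0.MFi24.D
set_option maxRecDepth 100000
set_option Elab.async false
set_option linter.unusedSectionVars false
namespace H0.MFi24
open H0 BN 
theorem c0 : relsW R 0 3 ((B.drop 0).take 13) = true := by decide +kernel
theorem c1 : relsW R 3 3 ((B.drop 0).take 13) = true := by decide +kernel
theorem c2 : relsW R 6 3 ((B.drop 0).take 13) = true := by decide +kernel
theorem c3 : relsW R 9 3 ((B.drop 0).take 13) = true := by decide +kernel
theorem c4 : relsW R 12 3 ((B.drop 0).take 13) = true := by decide +kernel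
theorem c5 : relsW R 15 3 ((B.drop 0).take 13) = true := by decide +kernel
theorem c6 : relsW R 18 1 ((B.drop 0).take 13) = true := by decide +kernel
theorem c7 : relsW R 0 3 ((B.drop 13).take 8) = true := by decide +kernel
theorem c8 : relsW R 3 3 ((B.drop 13).take 8) = true := by decide +kernel
theorem c9 : relsW R 6 3 ((B.drop 13).take 8) = true := by decide +kernel
theorem c10 : relsW R 9 3 ((B.drop 13).take 8) = true := by decide +kernel
theorem c11 : relsW R 12 3 ((B.drop 13).take 8) = true := by decide +kernel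
theorem c12 : relsW R 15 3 ((B.drop 13).take 8) = true := by decide +kernel
theorem c13 : relsW R 18 1 ((B.drop 13).take 8) = true := by decide +kernel
theorem c14 : relsW R 0 3 ((B.drop 21).take 7) = true := by decide +kernel
theorem c15 : relsW R 3 3 ((B.drop 21).take 7) = true := by decide +kernel
theorem c16 : relsW R 6 3 ((B.drop 21).take 7) = true := by decide +kernel
theorem c17 : relsW R 9 3 ((B.drop 21).take 7) = true := by decide +kernel
theorem c18 : relsW R 12 3 ((B.drop 21).take 7) = true := by decide +kernel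
theorem c19 : relsW R 15 3 ((B.drop 21).take 7) = true := by decide +kernel
theorem c20 : relsW R 18 1 ((B.drop 21).take 7) = true := by decide +kernel
theorem c21 : relsW R 0 3 ((B.drop 28).take 7) = true := by decide +kernel
theorem c22 : relsW R 3 3 ((B.drop 28).take 7) = true := by decide +kernel
theorem c23 : relsW R 6 3 ((B.drop 28).take 7) = true := by decide +kernel
theorem c24 : relsW R 9 3 ((B.drop 28).take 7) = true := by decide +kernel
theorem c25 : relsW R 12 3 ((B.drop 28).take 7) = true := by decide +kernel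
theorem c26 : relsW R 15 3 ((B.drop 28).take 7) = true := by decide +kernel
theorem c27 : relsW R 18 1 ((B.drop 28).take 7) = true := by decide +kernel
theorem c28 : relsW R 0 3 ((B.drop 35).take 7) = true := by decide +kernel
theorem c29 : relsW R 3 3 ((B.drop 35).take 7) = true := by decide +kernel
theorem c30 : relsW R 6 3 ((B.drop 35).take 7) = true := by decide +kernel
theorem c31 : relsW R 9 3 ((B.drop 35).take 7) = true := by decide +kernel
theorem c32 : relsW R 12 3 ((B.drop 35).take 7) = true := by decide +kernel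
theorem c33 : relsW R 15 3 ((B.drop 35).take 7) = true := by decide +kernel
theorem c34 : relsW R 18 1 ((B.drop 35).take 7) = true := by decide +kernel
theorem c35 : relsW R 0 3 ((B.drop 42).take 7) = true := by decide +kernel
theorem c36 : relsW R 3 3 ((B.drop 42).take 7) = true := by decide +kernel
theorem c37 : relsW R 6 3 ((B.drop 42).take 7) = true := by decide +kernel
theorem c38 : relsW R 9 3 ((B.drop 42).take 7) = true := by decide +kernel
theorem c39 : relsW R 12 3 ((B.drop 42).take 7) = true := by decide +kernel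
theorem c40 : relsW R 15 3 ((B.drop 42).take 7) = true := by decide +kernel
theorem c41 : relsW R 18 1 ((B.drop 42).take 7) = true := by decide +kernel
theorem c42 : relsW R 0 3 ((B.drop 49).take 7) = true := by decide +kernel
theorem c43 : relsW R 3 3 ((B.drop 49).take 7) = true := by decide +kernel
theorem c44 : relsW R 6 3 ((B.drop 49).take 7) = true := by decide +kernel
theorem c45 : relsW R 9 3 ((B.drop 49).take 7) = true := by decide +kernel
theorem c46 : relsW R 12 3 ((B.drop 49).take 7) = true := by decide +kernel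
theorem c47 : relsW R 15 3 ((B.drop 49).take 7) = true := by decide +kernel
theorem c48 : relsW R 18 1 ((B.drop 49).take 7) = true := by decide +kernel
theorem c49 : relsW R 0 3 ((B.drop 56).take 7) = true := by decide +kernel
theorem c50 : relsW R 3 3 ((B.drop 56).take 7) = true := by decide +kernel
theorem c51 : relsW R 6 3 ((B.drop 56).take 7) = true := by decide +kernel
theorem c52 : relsW R 9 3 ((B.drop 56).take 7) = true := by decide +kernel
theorem c53 : relsW R 12 3 ((B.drop 56).take 7) = true := by decide +kernel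
theorem c54 : relsW R 15 3 ((B.drop 56).take 7) = true := by decide +kernel
theorem c55 : relsW R 18 1 ((B.drop 56).take 7) = true := by decide +kernel
theorem c56 : relsW R 0 3 ((B.drop 63).take 7) = true := by decide +kernel
theorem c57 : relsW R 3 3 ((B.drop 63).take 7) = true := by decide +kernel
theorem c58 : relsW R 6 3 ((B.drop 63).take 7) = true := by decide +kernel
theorem c59 : relsW R 9 3 ((B.drop 63).take 7) = true := by decide +kernel
theorem c60 : relsW R 12 3 ((B.drop 63).take 7) = true := by decide +kernel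
theorem c61 : relsW R 15 3 ((B.drop 63).take 7) = true := by decide +kernel
theorem c62 : relsW R 18 1 ((B.drop 63).take 7) = true := by decide +kernel
theorem c63 : relsW R 0 3 ((B.drop 70).take 7) = true := by decide +kernel
theorem c64 : relsW R 3 3 ((B.drop 70).take 7) = true := by decide +kernel
theorem c65 : relsW R 6 3 ((B.drop 70).take 7) = true := by decide +kernel
theorem c66 : relsW R 9 3 ((B.drop 70).take 7) = true := by decide +kernel
theorem c67 : relsW R 12 3 ((B.drop 70).take 7) = true := by decide +kernel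
theorem c68 : relsW R 15 3 ((B.drop 70).take 7) = true := by decide +kernel
theorem c69 : relsW R 18 1 ((B.drop 70).take 7) = true := by decide +kernel
theorem c70 : relsW R 0 3 ((B.drop 77).take 1) = true := by decide +kernel
theorem c71 : relsW R 3 3 ((B.drop 77).take 1) = true := by decide +kernel
theorem c72 : relsW R 6 3 ((B.drop 77).take 1) = true := by decide +kernel
theorem c73 : relsW R 9 3 ((B.drop 77).take 1) = true := by decide +kernel
theorem c74 : relsW R 12 3 ((B.drop 77).take 1) = true := by decide +kernel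
theorem c75 : relsW R 15 3 ((B.drop 77).take 1) = true := by decide +kernel
theorem c76 : relsW R 18 1 ((B.drop 77).take 1) = true := by decide +kernel
theorem c77 : relsW R 0 1 ((B.drop 78).take 1) = true := by decide +kernel
theorem c78 : relsW R 1 1 ((B.drop 78).take 1) = true := by decide +kernel
theorem c79 : relsW R 2 1 ((B.drop 78).take 1) = true := by decide +kernel
theorem c80 : relsW R 3 1 ((B.drop 78).take 1) = true := by decide +kernel
theorem c81 : relsW R 4 1 ((B.drop 78).take 1) = true := by decide +kernel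
theorem c82 : relsW R 5 1 ((B.drop 78).take 1) = true := by decide +kernel
theorem c83 : relsW R 6 1 ((B.drop 78).take 1) = true := by decide +kernel
theorem c84 : relsW R 7 1 ((B.drop 78).take 1) = true := by decide +kernel
theorem c85 : relsW R 8 1 ((B.drop 78).take 1) = true := by decide +kernel
theorem c86 : relsW R 9 1 ((B.drop 78).take 1) = true := by decide +kernel
theorem c87 : relsW R 10 1 ((B.drop 78).take 1) = true := by decide +kernel
theorem c88 : relsW R 11 1 ((B.drop 78).take 1) = true := by decide +kernel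
theorem c89 : relsW R 12 1 ((B.drop 78).take 1) = true := by decide +kernel
theorem c90 : relsW R 13 1 ((B.drop 78).take 1) = true := by decide +kernel
theorem c91 : relsW R 14 1 ((B.drop 78).take 1) = true := by decide +kernel
theorem c92 : relsW R 15 1 ((B.drop 78).take 1) = true := by decide +kernel
theorem c93 : relsW R 16 1 ((B.drop 78).take 1) = true := by decide +kernel
theorem c94 : relsW R 17 1 ((B.drop 78).take 1) = true := by decide +kernel
theorem c95 : relsW R 18 1 ((B.drop 78).take 1) = true := by decide +kernel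
theorem c96 : relsW R 0 1 ((B.drop 79).take 1) = true := by decide +kernel
theorem c97 : relsW R 1 1 ((B.drop 79).take 1) = true := by decide +kernel
theorem c98 : relsW R 2 1 ((B.drop 79).take 1) = true := by decide +kernel
theorem c99 : relsW R 3 1 ((B.drop 79).take 1) = true := by decide +kernel
theorem c100 : relsW R 4 1 ((B.drop 79).take 1) = true := by decide +kernel
theorem c101 : relsW R 5 1 ((B.drop 79).take 1) = true := by decide +kernel
theorem c102 : relsW R 6 1 ((B.drop 79).take 1) = true := by decide +kernel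
theorem c103 : relsW R 7 1 ((B.drop 79).take 1) = true := by decide +kernel
theorem c104 : relsW R 8 1 ((B.drop 79).take 1) = true := by decide +kernel
theorem c105 : relsW R 9 1 ((B.drop 79).take 1) = true := by decide +kernel
theorem c106 : relsW R 10 1 ((B.drop 79).take 1) = true := by decide +kernel
theorem c107 : relsW R 11 1 ((B.drop 79).take 1) = true := by decide +kernel
theorem c108 : relsW R 12 1 ((B.drop 79).take 1) = true := by decide +kernel
theorem c109 : relsW R 13 1 ((B.drop 79).take 1) = true := by decide +kernel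
theorem c110 : relsW R 14 1 ((B.drop 79).take 1) = true := by decide +kernel
theorem c111 : relsW R 15 1 ((B.drop 79).take 1) = true := by decide +kernel
theorem c112 : relsW R 16 1 ((B.drop 79).take 1) = true := by decide +kernel
theorem c113 : relsW R 17 1 ((B.drop 79).take 1) = true := by decide +kernel
theorem c114 : relsW R 18 1 ((B.drop 79).take 1) = true := by decide +kernel
theorem c115 : eqW R 0 2 [14] [2, 0, 6, 9, 1, 8, 10, 5, 2, 0, 6, 9, 1, 8, 10, 5, 2, 0, 6, 9, 1, 8, 10, 5, 2, 0, 6, 9, 1, 8, 10, 5, 2, 0, 6, 9, 1, 8, 10, 5, 2, 0, 6, 9, 1, 8, 10, 5] = true := by decide +kernel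
theorem c116 : eqW R 2 2 [14] [2, 0, 6, 9, 1, 8, 10, 5, 2, 0, 6, 9, 1, 8, 10, 5, 2, 0, 6, 9, 1, 8, 10, 5, 2, 0, 6, 9, 1, 8, 10, 5, 2, 0, 6, 9, 1, 8, 10, 5, 2, 0, 6, 9, 1, 8, 10, 5] = true := by decide +kernel
theorem c117 : eqW R 4 2 [14] [2, 0, 6, 9, 1, 8, 10, 5, 2, 0, 6, 9, 1, 8, 10, 5, 2, 0, 6, 9, 1, 8, 10, 5, 2, 0, 6, 9, 1, 8, 10, 5, 2, 0, 6, 9, 1, 8, 10, 5, 2, 0, 6, 9, 1, 8, 10, 5] = true := by decide +kernel
theorem c118 : eqW R 6 2 [14] [2, 0, 6, 9, 1, 8, 10, 5, 2, 0, 6, 9, 1, 8, 10, 5, 2, 0, 6, 9, 1, 8, 10, 5, 2, 0, 6, 9, 1, 8, 10, 5, 2, 0, 6, 9, 1, 8, 10, 5, 2, 0, 6, 9, 1, 8, 10, 5] = true := by decide +kernel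
theorem c119 : eqW R 8 2 [14] [2, 0, 6, 9, 1, 8, 10, 5, 2, 0, 6, 9, 1, 8, 10, 5, 2, 0, 6, 9, 1, 8, 10, 5, 2, 0, 6, 9, 1, 8, 10, 5, 2, 0, 6, 9, 1, 8, 10, 5, 2, 0, 6, 9, 1, 8, 10, 5] = true := by decide +kernel
theorem c120 : eqW R 10 2 [14] [2, 0, 6, 9, 1, 8, 10, 5, 2, 0, 6, 9, 1, 8, 10, 5, 2, 0, 6, 9, 1, 8, 10, 5, 2, 0, 6, 9, 1, 8, 10, 5, 2, 0, 6, 9, 1, 8, 10, 5, 2, 0, 6, 9, 1, 8, 10, 5] = true := by decide +kernel
theorem c121 : eqW R 12 2 [14] [2, 0, 6, 9, 1, 8, 10, 5, 2, 0, 6, 9, 1, 8, 10, 5, 2, 0, 6, 9, 1, 8, 10, 5, 2, 0, 6, 9, 1, 8, 10, 5, 2, 0, 6, 9, 1, 8, 10, 5, 2, 0, 6, 9, 1, 8, 10, 5] = true := by decide +kernel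
theorem c122 : eqW R 14 2 [14] [2, 0, 6, 9, 1, 8, 10, 5, 2, 0, 6, 9, 1, 8, 10, 5, 2, 0, 6, 9, 1, 8, 10, 5, 2, 0, 6, 9, 1, 8, 10, 5, 2, 0, 6, 9, 1, 8, 10, 5, 2, 0, 6, 9, 1, 8, 10, 5] = true := by decide +kernel
theorem c123 : eqW R 16 2 [14] [2, 0, 6, 9, 1, 8, 10, 5, 2, 0, 6, 9, 1, 8, 10, 5, 2, 0, 6, 9, 1, 8, 10, 5, 2, 0, 6, 9, 1, 8, 10, 5, 2, 0, 6, 9, 1, 8, 10, 5, 2, 0, 6, 9, 1, 8, 10, 5] = true := by decide +kernel
theorem c124 : eqW R 18 1 [14] [2, 0, 6, 9, 1, 8, 10, 5, 2, 0, 6, 9, 1, 8, 10, 5, 2, 0, 6, 9, 1, 8, 10, 5, 2, 0, 6, 9, 1, 8, 10, 5, 2, 0, 6, 9, 1, 8, 10, 5, 2, 0, 6, 9, 1, 8, 10, 5] = true := by decide +kernel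
theorem c125 : eqW R 0 2 [13] [7, 5, 11, 3, 6, 8, 9, 4, 7, 5, 11, 3, 6, 8, 9, 4, 7, 5, 11, 3, 6, 8, 9, 4, 7, 5, 11, 3, 6, 8, 9, 4] = true := by decide +kernel
theorem c126 : eqW R 2 2 [13] [7, 5, 11, 3, 6, 8, 9, 4, 7, 5, 11, 3, 6, 8, 9, 4, 7, 5, 11, 3, 6, 8, 9, 4, 7, 5, 11, 3, 6, 8, 9, 4] = true := by decide +kernel
theorem c127 : eqW R 4 2 [13] [7, 5, 11, 3, 6, 8, 9, 4, 7, 5, 11, 3, 6, 8, 9, 4, 7, 5, 11, 3, 6, 8, 9, 4, 7, 5, 11, 3, 6, 8, 9, 4] = true := by decide +kernel
theorem c128 : eqW R 6 2 [13] [7, 5, 11, 3, 6, 8, 9, 4, 7, 5, 11, 3, 6, 8, 9, 4, 7, 5, 11, 3, 6, 8, 9, 4, 7, 5, 11, 3, 6, 8, 9, 4] = true := by decide +kernel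
theorem c129 : eqW R 8 2 [13] [7, 5, 11, 3, 6, 8, 9, 4, 7, 5, 11, 3, 6, 8, 9, 4, 7, 5, 11, 3, 6, 8, 9, 4, 7, 5, 11, 3, 6, 8, 9, 4] = true := by decide +kernel
theorem c130 : eqW R 10 2 [13] [7, 5, 11, 3, 6, 8, 9, 4, 7, 5, 11, 3, 6, 8, 9, 4, 7, 5, 11, 3, 6, 8, 9, 4, 7, 5, 11, 3, 6, 8, 9, 4] = true := by decide +kernel
theorem c131 : eqW R 12 2 [13] [7, 5, 11, 3, 6, 8, 9, 4, 7, 5, 11, 3, 6, 8, 9, 4, 7, 5, 11, 3, 6, 8, 9, 4, 7, 5, 11, 3, 6, 8, 9, 4] = true := by decide +kernel
theorem c132 : eqW R 14 2 [13] [7, 5, 11, 3, 6, 8, 9, 4, 7, 5, 11, 3, 6, 8, 9, 4, 7, 5, 11, 3, 6, 8, 9, 4, 7, 5, 11, 3, 6, 8, 9, 4] = true := by decide +kernel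
theorem c133 : eqW R 16 2 [13] [7, 5, 11, 3, 6, 8, 9, 4, 7, 5, 11, 3, 6, 8, 9, 4, 7, 5, 11, 3, 6, 8, 9, 4, 7, 5, 11, 3, 6, 8, 9, 4] = true := by decide +kernel
theorem c134 : eqW R 18 1 [13] [7, 5, 11, 3, 6, 8, 9, 4, 7, 5, 11, 3, 6, 8, 9, 4, 7, 5, 11, 3, 6, 8, 9, 4, 7, 5, 11, 3, 6, 8, 9, 4] = true := by decide +kernel
theorem c135 : eqW R 0 3 [12] [5, 4, 0, 6, 8, 3, 2, 11, 5, 4, 0, 6, 8, 3, 2, 11, 5, 4, 0, 6, 8, 3, 2, 11] = true := by decide +kernel
theorem c136 : eqW R 3 3 [12] [5, 4, 0, 6, 8, 3, 2, 11, 5, 4, 0, 6, 8, 3, 2, 11, 5, 4, 0, 6, 8, 3, 2, 11] = true := by decide +kernel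
theorem c137 : eqW R 6 3 [12] [5, 4, 0, 6, 8, 3, 2, 11, 5, 4, 0, 6, 8, 3, 2, 11, 5, 4, 0, 6, 8, 3, 2, 11] = true := by decide +kernel
theorem c138 : eqW R 9 3 [12] [5, 4, 0, 6, 8, 3, 2, 11, 5, 4, 0, 6, 8, 3, 2, 11, 5, 4, 0, 6, 8, 3, 2, 11] = true := by decide +kernel
theorem c139 : eqW R 12 3 [12] [5, 4, 0, 6, 8, 3, 2, 11, 5, 4, 0, 6, 8, 3, 2, 11, 5, 4, 0, 6, 8, 3, 2, 11] = true := by decide +kernel
theorem c140 : eqW R 15 3 [12] [5, 4, 0, 6, 8, 3, 2, 11, 5, 4, 0, 6, 8, 3, 2, 11, 5, 4, 0, 6, 8, 3, 2, 11] = true := by decide +kernel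
theorem c141 : eqW R 18 1 [12] [5, 4, 0, 6, 8, 3, 2, 11, 5, 4, 0, 6, 8, 3, 2, 11, 5, 4, 0, 6, 8, 3, 2, 11] = true := by decide +kernel
end H0.MFi24
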