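import Cfsg.Agent.H0.MFi24.K0
import Cfsg.Agent.H0.TCFi24a.Main
import Cfsg.Agent.H0.TCFi24b.Main
import Cfsg.Agent.H0.Spider
set_option maxRecDepth 100000
set_option Elab.async false
set_option linter.unusedSectionVars false
namespace H0.MFi24
open H0 BN 
theorem rels : ∀ r ∈ B, ev R.p r = 1 := all_take_done (all_take_step (all_take_step (all_take_step (all_take_step (all_take_step (all_take_step (all_take_step (all_take_step (all_take_step (all_take_step (all_take_step (all_take_step (all_take_step (all_take_zero _ B) (bits_done R (bits_step R (bits_step R (bits_step R (bits_step R (bits_step R (bits_step R (bits_step R (bits_zero R ((B.drop 0).take 13)) c0) c1) c2) c3) c4) c5) c6))) (bits_done R (bits_step R (bits_step R (bits_step R (bits_step R (bits_step R (bits_step R (bits_step R (bits_zero R ((B.drop 13).take 8)) c7) c8) c9) c10) c11) c12) c13))) (bits_done R (bits_step R (bits_step R (bits_step R (bits_step R (bits_step R (bits_step R (bits_step R (bits_zero R ((B.drop 21).take 7)) c14) c15) c16) c17) c18) c19) c20))) (bits_done R (bits_step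 R (bits_step R (bits_step R (bits_step R (bits_step R (bits_step R (bits_step R (bits_zero R ((B.drop 28).take 7)) c21) c22) c23) c24) c25) c26) c27))) (bits_done R (bits_step R (bits_step R (bits_step R (bits_step R (bits_step R (bits_step R (bits_step R (bits_zero R ((B.drop 35).take 7)) c28) c29) c30) c31) c32) c33) c34))) (bits_done R (bits_step R (bits_step R (bits_step R (bits_step R (bits_step R (bits_step R (bits_step R (bits_zero R ((B.drop 42).take 7)) c35) c36) c37) c38) c39) c40) c41))) (bits_done R (bits_step R (bits_step R (bits_step R (bits_step R (bits_step R (bits_step R (bits_step R (bits_zero R ((B.drop 49).take 7)) c42) c43) c44) c45) c46) c47) c48))) (bits_done R (bits_step R (bits_step R (bits_step R (bits_step R (bits_step R (bits_step R (bits_step R (bits_zero R ((B.drop 56).take 7)) c49) c50) c51) c52) c53) c54) c55))) (bits_done R (bits_step R (bits_step R (bits_step R (bits_step R (bits_step R (bits_step R (bits_step R (bits_zero R ((B.drop 63).take 7)) c56) c57) c58) c59) c60) c61) c62))) (bits_done R (bits_step R (bits_step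 R (bits_step R (bits_step R (bits_step R (bits_step R (bits_step R (bits_zero R ((B.drop 70).take 7)) c63) c64) c65) c66) c67) c68) c69))) (bits_done R (bits_step R (bits_step R (bits_step R (bits_step R (bits_step R (bits_step R (bits_step R (bits_zero R ((B.drop 77).take 1)) c70) c71) c72) c73) c74) c75) c76))) (bits_done R (bits_step R (bits_step R (bits_step R (bits_step R (bits_step R (bits_step R (bits_step R (bits_step R (bits_step R (bits_step R (bits_step R (bits_step R (bits_step R (bits_step R (bits_step R (bits_step R (bits_step R (bits_step R (bits_step R (bits_zero R ((B.drop 78).take 1)) c77) c78) c79) c80) c81) c82) c83) c84) c85) c86) c87) c88) c89) c90) c91) c92) c93) c94) c95))) (bits_done R (bits_step R (bits_step R (bits_step R (bits_step R (bits_step R (bits_step R (bits_step R (bits_step R (bits_step R (bits_step R (bits_step R (bits_step R (bits_step R (bits_step R (bits_step R (bits_step R (bits_step R (bits_step R (bits_step R (bits_zero R ((B.drop 79).take 1)) c96) c97) c98) c99) c100) c101) c102) c103) c104) c105) c106)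 c107) c108) c109) c110) c111) c112) c113) c114))) (by decide +kernel)
theorem defs_ok : DefsOK R.p defs 12 := (defsOK_cons (eq_of_bits R (eqb_step R (eqb_step R (eqb_step R (eqb_step R (eqb_step R (eqb_step R (eqb_step R (eqb_zero R [12] [5, 4, 0, 6, 8, 3, 2, 11, 5, 4, 0, 6, 8, 3, 2, 11, 5, 4, 0, 6, 8, 3, 2, 11]) c135) c136) c137) c138) c139) c140) c141)) (by decide) (defsOK_cons (eq_of_bits R (eqb_step R (eqb_step R (eqb_step R (eqb_step R (eqb_step R (eqb_step R (eqb_step R (eqb_step R (eqb_step R (eqb_step R (eqb_zero R [13] [7, 5, 11, 3, 6, 8, 9, 4, 7, 5, 11, 3, 6, 8, 9, 4, 7, 5, 11, 3, 6, 8, 9, 4, 7, 5, 11, 3, 6, 8, 9, 4]) c125) c126) c127) c128) c129) c130) c131) c132) c133) c134)) (by decide) (defsOK_cons (eq_of_bits R (eqb_step R (eqb_step R (eqb_step R (eqb_step R (eqb_step R (eqb_step R (eqb_step R (eqb_step R (eqb_step R (eqb_step R (eqb_zero R [14] [2, 0, 6, 9, 1, 8, 10, 5, 2, 0, 6, 9, 1, 8, 10, 5, 2, 0, 6, 9, 1, 8, 10, 5, 2, 0, 6, 9, 1, 8, 10, 5, 2, 0, 6, 9, 1, 8, 10, 5, 2, 0, 6, 9, 1, 8, 10, 5]) c115) c116) c117) c118) c119) c120)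 c121) c122) c123) c124)) (by decide) (defsOK_nil _ _))))
variable {G : Type} [Group G] (P : Pres G 12 B)
noncomputable def m : Model G := P.model defs R rels (by decide +kernel) defs_ok R_ge
include P
theorem mR : (m P).R = R := rfl
theorem g_eq {x : ℕ} (h : x < 12) : (m P).g x = P.g x := extG_out defs P.g 12 (Or.inl h)
theorem top : gen (m P).g (lets 12) = ⊤ := (gen_extG defs P.g 12 (by decide)).trans P.top
theorem grel : ∀ r ∈ B, ev (m P).g r = 1 := rels_extG defs 12 (by decide +kernel) P.rel
theorem hi : ∀ x < 12, (m P).g x * (m P).g (inv x) = 1 := inv_of_invChk (grel P) (by decide +kernel)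
theorem tw : type_of% (Spider.twist (m P).g (rels_of_consChk (grel P) 12 inv (by decide +kernel))) :=
  Spider.twist (m P).g (rels_of_consChk (grel P) 12 inv (by decide +kernel))
theorem rel2 : ∀ r ∈ B ++ [sh 2 Spider.sp], ev (m P).g r = 1 :=
  rels_append (grel P) fun r hr => by rw [List.mem_singleton.1 hr]; exact (tw P).1
theorem idx : (gen (m P).g subs).relIndex ⊤ ≠ 0 ∧ (gen (m P).g subs).relIndex ⊤ ≤ 306936 :=
  top P ▸ chain_index (σ := lets 12) H0.TCFi24a.main rfl rfl (rels_of_consChk (rel2 P) 12 inv (by decide +kernel))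
theorem subB : Finite (gen (m P).g subs) ∧ Nat.card (gen (m P).g subs) ≤ 2 * 4089470473293004800 :=
  chain_step (σ := subs) (n := 2) H0.TCFi24b.main rfl rfl (rels_of_consChk (grel P) 12 inv (by decide +kernel)) (tw P).2.1
theorem upper : Finite G ∧ Nat.card G ≤ 2 * 1255205709190661721292800 := card_of_top (top P)
  ((chain_step (σ := lets 12) (n := 306936) H0.TCFi24a.main rfl rfl (rels_of_consChk (rel2 P) 12 inv (by decide +kernel)) (subB P)).imp_right fun h => h.trans (by decide +kernel))
theorem fin : Finite G := (upper P).1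
theorem sgn : (commutator G).index = 2 ∧ ∀ w : List ℕ, (ev (m P).g w ∈ commutator G ↔ (w.countP (Nat.blt · 12) % 2 == 0) = true) :=
  P.sgn defs (par := [0, 0, 1, 2, 3, 4, 5, 6, 7, 8, 5, 10]) (by decide +kernel)
theorem gsubs : gen (m P).g subs = gen P.g subs := gen_extG defs P.g 12 (by decide +kernel)
end H0.MFi24
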